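import Groth.Agent.SmoothLift.Scheme
import Mathlib.AlgebraicGeometry.Morphisms.Smooth
import Mathlib.AlgebraicGeometry.Morphisms.FinitePresentation

/-!
Formally smooth morphisms of schemes are tested on affine pieces.
-/

set_option autoImplicit false
set_option backward.isDefEq.respectTransparency false

universe u

open CategoryTheory CategoryTheory.Limits AlgebraicGeometry

namespace Groth.Agent.SmoothLift

variable {X Y : Scheme.{u}} (f : X ⟶ Y)

theorem isFormallySmoothHom_of_appLE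
    (h : ∀ (U : X.Opens) (V : Y.Opens) (_ : IsAffineOpen U) (_ : IsAffineOpen V) (hUV : U ≤ f ⁻¹ᵁ V),
      (f.appLE V U hUV).hom.FormallySmooth) : MoreMor.IsFormallySmoothHom f := by
  refine isFormallySmoothHom_of_locally f fun x => ?_
  obtain ⟨V, hV, hxV, -⟩ := exists_isAffineOpen_mem_and_subset (show f x ∈ (⊤ : Y.Opens) from trivial)
  obtain ⟨U, hU, hxU, hUV⟩ := exists_isAffineOpen_mem_and_subset (show x ∈ f ⁻¹ᵁ V from hxV)
  exact ⟨U, hxU, isFormallySmoothHom_ι_comp f hU hV hUV (h U V hU hV hUV)⟩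

theorem isFormallySmoothHom_iff :
    MoreMor.IsFormallySmoothHom f ↔ ∀ (U : X.Opens) (V : Y.Opens) (_ : IsAffineOpen U)
      (_ : IsAffineOpen V) (hUV : U ≤ f ⁻¹ᵁ V), (f.appLE V U hUV).hom.FormallySmooth :=
  ⟨fun h _ _ hU hV hUV => FlatMorLib.formallySmooth_appLE f hU hV hUV h, isFormallySmoothHom_of_appLE f⟩

theorem isFormallySmoothHom_of_smooth [Smooth f] : MoreMor.IsFormallySmoothHom f :=
  isFormallySmoothHom_of_appLE f fun _ _ hU hV hUV => (RingHom.smooth_def.1 (f.smooth_appLE hV hU hUV)).1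

theorem smooth_iff : Smooth f ↔ LocallyOfFinitePresentation f ∧ MoreMor.IsFormallySmoothHom f := by
  refine ⟨fun _ => ⟨inferInstance, isFormallySmoothHom_of_smooth f⟩, fun ⟨_, h⟩ => ⟨fun {V} hV {U} hU hUV => ?_⟩⟩
  exact RingHom.smooth_def.2 ⟨FlatMorLib.formallySmooth_appLE f hU hV hUV h,
    HasRingHomProperty.appLE (P := @LocallyOfFinitePresentation) f inferInstance ⟨V, hV⟩ ⟨U, hU⟩ hUV⟩

end Groth.Agent.SmoothLift
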