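import Groth.Agent.SmoothLift.Algebra
import Mathlib.RingTheory.TensorProduct.IncludeLeftSubRight
import Mathlib.RingTheory.Flat.Equalizer

/-!
Sections of square-zero extensions given by descent data along a faithfully flat algebra.

`M` is a square-zero extension of `Q ⧸ I Q` over the faithfully flat `A`-algebra `Q` and `p : M → Q ⊗ M` is a
descent datum written as a coaction. The invariants form a square-zero extension of `A ⧸ I` with base change `M`.
-/

set_option autoImplicit false
set_option maxHeartbeats 800000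

universe u

open TensorProduct

namespace Groth.Agent.SmoothLift

variable {A : Type u} [CommRing A] {I : Ideal A} {Q : Type u} [CommRing Q] [Algebra A Q]
  {M : Type u} [CommRing M] [Algebra A M] [Algebra Q M] [IsScalarTower A Q M]

/-- Relative lifting for square-zero extensions over `Q`. -/
def LiftsOver (π : M →ₐ[Q] Q ⧸ I.map (algebraMap A Q)) : Prop :=
  ∀ (A' A'' : Type u) [CommRing A'] [CommRing A''] [Algebra A A'] [Algebra A A''] [Algebra Q A'] [Algebra Q A'']
    [IsScalarTower A Q A'] [IsScalarTower A Q A''] (φ : A' →ₐ[Q] A''), Function.Surjective φ →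
    ∀ I'' : Ideal A', I'' ^ 2 = ⊥ → RingHom.ker φ ≤ I'' → I.map (algebraMap A A') ≤ I'' →
    ∀ η : M →ₐ[Q] A'', RingHom.ker π ≤ (I''.map φ).comap η → ∃ δ : M →ₐ[Q] A', φ.comp δ = η

variable (π : M →ₐ[Q] Q ⧸ I.map (algebraMap A Q)) (p : M →ₐ[Q] Q ⊗[A] M)

/-- The invariants of the coaction. -/
def invariants : Subalgebra A M :=
  AlgHom.equalizer (p.restrictScalars A) (Algebra.TensorProduct.includeRight (R := A) (A := Q) (B := M))

/-- The comparison map of the base change of the invariants. -/
noncomputable def invIncl : Q ⊗[A] invariants p →ₐ[Q] Q ⊗[A] M :=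
  Algebra.TensorProduct.map (AlgHom.id Q Q) (invariants p).val

theorem p_val (c : invariants p) : p c.1 = 1 ⊗ₜ c.1 := c.2

theorem map_le_ker {A' : Type u} [CommRing A'] [Algebra A A'] (J : Ideal A')
    (h : I.map (algebraMap A A') ≤ J) (i : A) (hi : i ∈ I) : algebraMap A A' i ∈ J :=
  h (Ideal.mem_map_of_mem _ hi)

variable (hμ : ∀ m, Algebra.TensorProduct.lift (Algebra.ofId Q M) (AlgHom.id A M)
    (fun _ _ => Commute.all _ _) (p m) = m)
  (hco : ∀ m, Algebra.TensorProduct.map (AlgHom.id Q Q) (p.restrictScalars A) (p m) =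
    Algebra.TensorProduct.map (AlgHom.id Q Q) Algebra.TensorProduct.includeRight (p m))

include hμ hco in
omit hμ in
theorem mem_range_invIncl [Module.Flat A Q] (m : M) : p m ∈ (invIncl p).range := by
  let i₁ := (p.restrictScalars A).toLinearMap
  let i₂ := (Algebra.TensorProduct.includeRight (R := A) (A := Q) (B := M)).toLinearMap
  have hex : Function.Exact (invariants p).val.toLinearMap (i₁ - i₂) := fun x =>
    ⟨fun hx => ⟨⟨x, sub_eq_zero.1 (show i₁ x - i₂ x = 0 from hx)⟩, rfl⟩,
      fun ⟨c, hc⟩ => by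
        subst hc
        exact sub_eq_zero.2 c.2⟩
  have key : ∀ z, ((i₁ - i₂).lTensor Q) z =
      Algebra.TensorProduct.map (AlgHom.id Q Q) (p.restrictScalars A) z -
        Algebra.TensorProduct.map (AlgHom.id Q Q) Algebra.TensorProduct.includeRight z := fun z => by
    induction z with
    | zero => simp
    | tmul a b => simp [i₁, i₂, tmul_sub]
    | add a b ha hb => simp only [map_add, ha, hb]; abel
  obtain ⟨y, hy⟩ := (Module.Flat.lTensor_exact Q hex (p m)).1 (by rw [key, hco, sub_self])
  refine ⟨y, ?_⟩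
  rw [← hy]
  clear hy
  induction y with
  | zero => simp
  | tmul a b => rfl
  | add a b ha hb => exact (map_add (invIncl p) a b).trans ((congrArg₂ (· + ·) ha hb).trans (map_add _ a b).symm)

theorem invIncl_injective [Module.Flat A Q] : Function.Injective (invIncl p) := by
  have e : ∀ z, invIncl p z = (invariants p).val.toLinearMap.lTensor Q z := fun z => by
    induction z with
    | zero => simp
    | tmul a b => rfl
    | add a b ha hb => simp only [map_add, ha, hb]
  intro x y h
  rw [e, e] at h
  exact Module.Flat.lTensor_preserves_injective_linearMap (invariants p).val.toLinearMap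
    Subtype.val_injective h

/-- The inverse of the comparison map. -/
noncomputable def toInv [Module.Flat A Q] : M →ₐ[Q] Q ⊗[A] invariants p :=
  ((AlgEquiv.ofInjective (invIncl p) (invIncl_injective p)).symm : _ →ₐ[Q] _).comp
    (p.codRestrict _ (mem_range_invIncl p hco))

theorem invIncl_toInv [Module.Flat A Q] (m : M) : invIncl p (toInv p hco m) = p m :=
  congrArg Subtype.val
    ((AlgEquiv.ofInjective (invIncl p) (invIncl_injective p)).apply_symm_apply ⟨p m, mem_range_invIncl p hco m⟩)

theorem toInv_val [Module.Flat A Q] (c : invariants p) : toInv p hco c.1 = 1 ⊗ₜ c :=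
  invIncl_injective p ((invIncl_toInv p hco _).trans (p_val p c))

include hco in
theorem exists_mk_eq [Module.FaithfullyFlat A Q] (hp : RingHom.ker π ≤ ((RingHom.ker π).map
      (Algebra.TensorProduct.includeRight (R := A) (A := Q) (B := M)).toRingHom).comap p)
    (c : invariants p) : ∃ r : A, π c.1 = Ideal.Quotient.mk _ (algebraMap A Q r) := by
  obtain ⟨r, hr⟩ := Ideal.Quotient.mk_surjective (π c.1)
  let B := (A ⧸ I) ⊗[A] Q
  let g : Q →ₐ[A] B := Algebra.TensorProduct.includeRight
  let g₁ : Q →ₐ[A] B ⊗[A ⧸ I] B :=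
    ((Algebra.TensorProduct.includeLeft (R := A ⧸ I) (S := A ⧸ I) (A := B) (B := B)).restrictScalars A).comp g
  have hgI : ∀ x ∈ I.map (algebraMap A Q), g x = 0 := by
    intro x hx
    have : I.map (algebraMap A Q) ≤ RingHom.ker g := Ideal.map_le_iff_le_comap.2 fun i hi => by
      rw [Ideal.mem_comap, RingHom.mem_ker, AlgHom.commutes, IsScalarTower.algebraMap_apply A (A ⧸ I) B,
        Ideal.Quotient.algebraMap_eq, Ideal.Quotient.eq_zero_iff_mem.2 hi, map_zero]
    exact this hx
  let gπ : M →ₐ[A] B ⊗[A ⧸ I] B :=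
      ((Algebra.TensorProduct.includeRight (R := A ⧸ I) (A := B) (B := B)).restrictScalars A).comp
        ((Ideal.Quotient.liftₐ (I.map (algebraMap A Q)) g hgI).comp (π.restrictScalars A))
  let Φ : Q ⊗[A] M →ₐ[A] B ⊗[A ⧸ I] B := Algebra.TensorProduct.lift g₁ gπ fun x y =>
    show g₁ x * gπ y = gπ y * g₁ x from mul_comm (G := B ⊗[A ⧸ I] B) _ _
  let rQ : M := algebraMap Q M r
  have hker : c.1 - rQ ∈ RingHom.ker π := by
    rw [RingHom.mem_ker, map_sub, AlgHom.commutes, Ideal.Quotient.algebraMap_eq, hr, sub_self]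
  have h0 : Φ (p (c.1 - rQ)) = 0 := by
    have : (RingHom.ker π).map (Algebra.TensorProduct.includeRight (R := A) (A := Q) (B := M)).toRingHom ≤
        RingHom.ker Φ := Ideal.map_le_iff_le_comap.2 fun n (hn : π n = 0) => by
      simp [Φ, gπ, hn]
      exact MulZeroClass.mul_zero (M₀ := B ⊗[A ⧸ I] B) _
    exact this (hp hker)
  rw [map_sub, map_sub, p_val, p.commutes, Algebra.TensorProduct.algebraMap_apply, sub_eq_zero] at h0
  simp [Φ, gπ, g₁, ← hr] at h0
  have heff := Algebra.IsEffective.of_faithfullyFlat (A ⧸ I) B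
  obtain ⟨s, hs⟩ := (heff (g r)).1 (by
    rw [Algebra.TensorProduct.includeLeftSubRight_apply, sub_eq_zero]
    exact h0.symm)
  obtain ⟨s, rfl⟩ := Ideal.Quotient.mk_surjective s
  refine ⟨s, ?_⟩
  rw [← hr, Ideal.Quotient.eq]
  have hs' : g (r - algebraMap A Q s) = 0 := by
    rw [map_sub, AlgHom.commutes, ← hs, IsScalarTower.algebraMap_apply A (A ⧸ I) B]
    exact sub_self _
  let back : B →ₐ[A] Q ⧸ I.map (algebraMap A Q) :=
    Algebra.TensorProduct.lift (Ideal.quotientMapₐ _ (Algebra.ofId A Q) Ideal.le_comap_map)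
      (Ideal.Quotient.mkₐ A _) fun _ _ => Commute.all _ _
  have hback : ∀ x, back (g x) = Ideal.Quotient.mk _ x := fun x =>
    (Algebra.TensorProduct.lift_tmul _ _ _ _ _).trans (by simp)
  exact Ideal.Quotient.eq_zero_iff_mem.1 ((hback _).symm.trans ((congrArg back hs').trans (map_zero back)))

include hμ hco in
/-- Descended sections of square-zero extensions. -/
theorem exists_descended_section [Module.FaithfullyFlat A Q] (hI : I ^ 2 = ⊥)
    (hπ : RingHom.ker π ^ 2 = ⊥)
    (hp : RingHom.ker π ≤ ((RingHom.ker π).map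
      (Algebra.TensorProduct.includeRight (R := A) (A := Q) (B := M)).toRingHom).comap p)
    (hlift : LiftsOver π) :
    ∃ δ : M →ₐ[Q] Q, RingHom.ker π ≤ (I.map (algebraMap A Q)).comap δ ∧
      ∀ m, Algebra.TensorProduct.map (AlgHom.id Q Q) (δ.restrictScalars A) (p m) = δ m ⊗ₜ 1 := by
  have hmk := exists_mk_eq π p hco hp
  choose r hr using hmk
  have hinj : ∀ x y : A, (Ideal.Quotient.mk (I.map (algebraMap A Q)) (algebraMap A Q x)) =
      Ideal.Quotient.mk _ (algebraMap A Q y) → Ideal.Quotient.mk I x = Ideal.Quotient.mk I y := fun x y h => by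
    rw [Ideal.Quotient.eq] at h ⊢
    rw [← map_sub] at h
    rwa [← Ideal.comap_map_eq_self_of_faithfullyFlat (B := Q) I]
  let πC : invariants p →ₐ[A] A ⧸ I :=
    { toFun c := Ideal.Quotient.mk I (r c)
      map_one' := by
        rw [← map_one (Ideal.Quotient.mk I)]
        refine hinj _ _ ?_
        rw [← hr]; simp
      map_mul' x y := by
        rw [← map_mul]
        refine hinj _ _ ?_
        rw [← hr, map_mul, map_mul, ← hr, ← hr]
        exact map_mul π _ _
      map_zero' := by
        rw [← map_zero (Ideal.Quotient.mk I)]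
        refine hinj _ _ ?_
        rw [← hr]; simp
      map_add' x y := by
        rw [← map_add]
        refine hinj _ _ ?_
        rw [← hr, map_add, map_add, ← hr, ← hr]
        exact map_add π _ _
      commutes' a := by
        refine hinj _ _ ?_
        rw [← hr]
        change π (algebraMap A M a) = _
        rw [IsScalarTower.algebraMap_apply A Q M, AlgHom.commutes, Ideal.Quotient.algebraMap_eq] }
  have hπC : ∀ c a, πC c = Ideal.Quotient.mk I a → π c.1 = Ideal.Quotient.mk _ (algebraMap A Q a) := fun c a h => by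
    rw [hr, Ideal.Quotient.eq, ← map_sub]
    exact Ideal.mem_map_of_mem _ (Ideal.Quotient.eq.1 h)
  have hker : RingHom.ker πC ^ 2 = ⊥ := by
    rw [pow_two, ← le_bot_iff, Ideal.mul_le]
    intro x hx y hy
    rw [Ideal.mem_bot]
    refine Subtype.ext ?_
    have : x.1 * y.1 ∈ RingHom.ker π ^ 2 := by
      rw [pow_two]
      refine Ideal.mul_mem_mul ?_ ?_
      · exact (hπC x 0 (by rw [map_zero]; exact hx)).trans (by simp)
      · exact (hπC y 0 (by rw [map_zero]; exact hy)).trans (by simp)
    rwa [hπ] at this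
  -- extension of maps from the invariants to maps from `M`
  have ext_compat : ∀ (A'' : Type u) [CommRing A''] [Algebra A A''] [Algebra Q A''] [IsScalarTower A Q A'']
      (J : Ideal A'') (_ : I.map (algebraMap A A'') ≤ J) (η : invariants p →ₐ[A] A''),
      (∀ c a, πC c = Ideal.Quotient.mk I a → η c - algebraMap A A'' a ∈ J) →
      RingHom.ker π ≤ J.comap ((Algebra.TensorProduct.lift (Algebra.ofId Q A'') η
        fun _ _ => Commute.all _ _).comp (toInv p hco)) := by
    intro A'' _ _ _ _ J hJ η hη m hm
    have hQJ : ∀ x ∈ I.map (algebraMap A Q), Ideal.Quotient.mkₐ Q J (algebraMap Q A'' x) = 0 := fun x hx => by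
      have : I.map (algebraMap A Q) ≤ J.comap (algebraMap Q A'') := Ideal.map_le_iff_le_comap.2 fun i hi => by
        rw [Ideal.mem_comap, Ideal.mem_comap, ← IsScalarTower.algebraMap_apply]
        exact hJ (Ideal.mem_map_of_mem _ hi)
      exact Ideal.Quotient.eq_zero_iff_mem.2 (this hx)
    let ρ : Q ⧸ I.map (algebraMap A Q) →ₐ[Q] A'' ⧸ J :=
      Ideal.Quotient.liftₐ _ (Algebra.ofId Q (A'' ⧸ J)) hQJ
    let F := (Ideal.Quotient.mkₐ Q J).comp (Algebra.TensorProduct.lift (Algebra.ofId Q A'') η fun _ _ => Commute.all _ _)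
    let μM : Q ⊗[A] M →ₐ[Q] M :=
      Algebra.TensorProduct.lift (Algebra.ofId Q M) (AlgHom.id A M) fun _ _ => Commute.all _ _
    have e : F = (ρ.comp π).comp (μM.comp (invIncl p)) := by
      apply Algebra.TensorProduct.ext
      · exact Subsingleton.elim _ _
      · refine AlgHom.ext fun c => ?_
        simp only [F, μM, invIncl, ρ, AlgHom.comp_apply, AlgHom.restrictScalars_apply,
          Algebra.TensorProduct.includeRight_apply, Algebra.TensorProduct.lift_tmul,
          Algebra.TensorProduct.map_tmul, map_one, one_mul, AlgHom.id_apply, Subalgebra.val_apply,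
          Ideal.Quotient.mkₐ_eq_mk, hr c, Ideal.Quotient.liftₐ_apply, Ideal.Quotient.lift_mk]
        refine (Ideal.Quotient.eq.2 (hη c (r c) rfl)).trans ?_
        rw [IsScalarTower.algebraMap_apply A Q A'']
        rfl
    have := AlgHom.congr_fun e (toInv p hco m)
    simp only [AlgHom.comp_apply, invIncl_toInv] at this
    rw [show μM (p m) = m from hμ m, hm, map_zero] at this
    exact (Ideal.Quotient.eq_zero_iff_mem (I := J)).1 this
  have lifts : LiftsWith πC fun A' _ _ => Nonempty (Q →ₐ[A] A') := by
    intro A' A'' _ _ _ _ φ hφ ⟨ψ⟩ I'' hI'' hker hII η hη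
    algebraize [ψ.toRingHom, (φ.comp ψ).toRingHom]
    have : IsScalarTower A Q A' := IsScalarTower.of_algebraMap_eq fun a => (ψ.commutes a).symm
    have : IsScalarTower A Q A'' := IsScalarTower.of_algebraMap_eq fun a => ((φ.comp ψ).commutes a).symm
    let φQ : A' →ₐ[Q] A'' := { φ.toRingHom with commutes' := fun _ => rfl }
    let J : Ideal A'' := I''.map φQ
    let ηQ := (Algebra.TensorProduct.lift (Algebra.ofId Q A'') η fun _ _ => Commute.all _ _).comp (toInv p hco)
    obtain ⟨δ, hδ⟩ := hlift A' A'' φQ hφ I'' hI'' hker hII ηQ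
      (ext_compat A'' J (Ideal.map_le_iff_le_comap.2 fun i hi => by
          rw [Ideal.mem_comap, ← φ.commutes]
          exact Ideal.mem_map_of_mem φQ (hII (Ideal.mem_map_of_mem _ hi))) η fun c a ha => by
        obtain ⟨x, hx⟩ := hφ (η c)
        rw [← hx, ← φ.commutes, ← map_sub]
        exact Ideal.mem_map_of_mem φQ (hη c a x ha hx))
    refine ⟨(δ.restrictScalars A).comp (invariants p).val, AlgHom.ext fun c => ?_⟩
    refine (AlgHom.congr_fun hδ c.1).trans ?_
    simp [ηQ, toInv_val]
  obtain ⟨δ₀, hδ₀⟩ := exists_section_ff hker hI Q lifts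
  let η : invariants p →ₐ[A] Q := (Algebra.ofId A Q).comp δ₀
  let δ := (Algebra.TensorProduct.lift (Algebra.ofId Q Q) η fun _ _ => Commute.all _ _).comp (toInv p hco)
  refine ⟨δ, ext_compat Q (I.map (algebraMap A Q)) le_rfl η fun c a ha => ?_, fun m => ?_⟩
  · change algebraMap A Q (δ₀ c) - _ ∈ _
    rw [← map_sub]
    refine Ideal.mem_map_of_mem _ (Ideal.Quotient.eq.1 ?_)
    exact (AlgHom.congr_fun hδ₀ c).trans ha
  have e : (Algebra.TensorProduct.map (AlgHom.id Q Q) (δ.restrictScalars A)).comp (invIncl p) =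
      (Algebra.TensorProduct.includeLeft (R := A) (S := Q) (A := Q) (B := Q)).comp
        (Algebra.TensorProduct.lift (Algebra.ofId Q Q) η fun _ _ => Commute.all _ _) := by
    apply Algebra.TensorProduct.ext
    · exact Subsingleton.elim _ _
    · refine AlgHom.ext fun c => ?_
      have hc : δ c.1 = algebraMap A Q (δ₀ c) := by simp [δ, toInv_val, η]
      simp only [invIncl, AlgHom.comp_apply, AlgHom.restrictScalars_apply,
        Algebra.TensorProduct.includeRight_apply, Algebra.TensorProduct.map_tmul, map_one, AlgHom.id_apply,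
        Subalgebra.val_apply, Algebra.TensorProduct.lift_tmul, one_mul, Algebra.TensorProduct.includeLeft_apply, hc,
        η, Algebra.ofId_apply, Algebra.algebraMap_eq_smul_one, TensorProduct.smul_tmul]
  have := AlgHom.congr_fun e (toInv p hco m)
  simp only [AlgHom.comp_apply, invIncl_toInv] at this
  exact this

end Groth.Agent.SmoothLift
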