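import Groth.Agent.SmoothLift.Scheme

/-!
The algebra representing the lifts of a morphism along a square-zero thickening.
-/

set_option autoImplicit false
set_option backward.isDefEq.respectTransparency false
set_option maxHeartbeats 800000

universe u

open CategoryTheory CategoryTheory.Limits AlgebraicGeometry TopologicalSpace Opposite

namespace Groth.Agent.SmoothLift

variable {X Y : Scheme.{u}} {A : Type u} [CommRing A] {I : Ideal A}

/-- Algebra maps compatible with `π` modulo `I'`. -/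
def Compat {C : Type u} [CommRing C] [Algebra A C] (π : C →ₐ[A] A ⧸ I) {A' : Type u} [CommRing A'] [Algebra A A']
    (I' : Ideal A') (δ : C →ₐ[A] A') : Prop :=
  ∀ (c : C) (r : A), π c = Ideal.Quotient.mk I r → δ c - algebraMap A A' r ∈ I'

/-- The first infinitesimal neighbourhood of a section over a thickening, as an algebra: it represents lifts. -/
theorem exists_univLiftAlg (f : X ⟶ Y) (a : Spec (CommRingCat.of (A ⧸ I)) ⟶ X) (b : Spec (CommRingCat.of A) ⟶ Y)
    (hI : I ^ 2 = ⊥) (w : Spec.map (CommRingCat.ofHom (Ideal.Quotient.mk I)) ≫ b = a ≫ f) :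
    ∃ (C : Type u) (_ : CommRing C) (_ : Algebra A C) (π : C →ₐ[A] A ⧸ I) (lC : Spec (CommRingCat.of C) ⟶ X),
      RingHom.ker π ^ 2 = ⊥ ∧
      Spec.map (CommRingCat.ofHom π.toRingHom) ≫ lC = a ∧
      lC ≫ f = Spec.map (CommRingCat.ofHom (algebraMap A C)) ≫ b ∧
      ∀ (A' : Type u) [CommRing A'] [Algebra A A'] (I' : Ideal A'), I' ^ 2 = ⊥ →
        ∀ (hII : I.map (algebraMap A A') ≤ I') (l : Spec (CommRingCat.of A') ⟶ X),
          l ≫ f = Spec.map (CommRingCat.ofHom (algebraMap A A')) ≫ b →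
          Spec.map (CommRingCat.ofHom (Ideal.Quotient.mk I')) ≫ l =
            Spec.map (CommRingCat.ofHom (Ideal.quotientMap I' (algebraMap A A')
              (Ideal.map_le_iff_le_comap.1 hII))) ≫ a →
          ∃! δ : C →ₐ[A] A', Compat π I' δ ∧ Spec.map (CommRingCat.ofHom δ.toRingHom) ≫ lC = l := by
  let j := NilLift.quotι I
  have hjs : Surjective j := NilLift.surjective_quotι I ⟨2, by rw [hI]; rfl⟩
  let s₀ : Spec (CommRingCat.of (A ⧸ I)) ⟶ pullback f b := pullback.lift a j w.symm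
  have hs₀ : s₀ ≫ pullback.snd f b = j := pullback.lift_snd _ _ _
  have : IsImmersion (s₀ ≫ pullback.snd f b) := by rw [hs₀]; infer_instance
  have : IsImmersion s₀ := IsImmersion.of_comp s₀ (pullback.snd f b)
  let W := s₀.coborderRange
  let s₀' := s₀.liftCoborder
  let K := s₀'.ker * s₀'.ker
  let Z := K.subscheme
  let ι := K.subschemeι
  have hK : ι.ker ≤ s₀'.ker := by
    rw [Scheme.IdealSheafData.ker_subschemeι]
    intro U
    simp only [K, Scheme.IdealSheafData.ideal_mul, Pi.mul_apply]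
    exact Ideal.mul_le_right
  let z : Spec (CommRingCat.of (A ⧸ I)) ⟶ Z := IsClosedImmersion.lift ι s₀' hK
  have hz : z ≫ ι = s₀' := IsClosedImmersion.lift_fac _ _ _
  have : IsClosedImmersion (z ≫ ι) := by rw [hz]; infer_instance
  have : IsClosedImmersion z := IsClosedImmersion.of_comp z ι
  have hzs : Function.Surjective z := fun y => by
    have : ι y ∈ Set.range ι := ⟨y, rfl⟩
    rw [Scheme.IdealSheafData.range_subschemeι, Scheme.IdealSheafData.support_mul] at this
    simp only [Closeds.coe_sup, Set.union_self, Scheme.Hom.support_ker, Closeds.coe_closure,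
      s₀'.isClosedEmbedding.isClosed_range.closure_eq] at this
    obtain ⟨p, hp⟩ := this
    exact ⟨p, ι.isClosedEmbedding.injective (by rw [← Scheme.Hom.comp_apply, hz, hp])⟩
  let q : Z ⟶ Spec (CommRingCat.of A) := ι ≫ W.ι ≫ pullback.snd f b
  have hzq : z ≫ q = j := by simp only [q, reassoc_of% hz, s₀', W, Scheme.Hom.liftCoborder_ι_assoc, hs₀]
  have hzq' : ∀ p, q (z p) = j p := fun p => by rw [← Scheme.Hom.comp_apply, hzq]
  have : IsAffineHom q := by
    let e := z.isClosedEmbedding.isEmbedding.toHomeomorphOfSurjective hzs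
    have hqe : (q : Z → Spec (CommRingCat.of A)) = j ∘ e.symm := funext fun y => by
      obtain ⟨p, rfl⟩ := hzs y
      have : e.symm (z p) = p := e.symm_apply_apply p
      rw [Function.comp_apply, this, hzq']
    refine isAffineHom_of_isInducing q ?_ ?_
    · rw [hqe]; exact j.isClosedEmbedding.isInducing.comp e.symm.isInducing
    · rw [hqe, e.symm.surjective.range_comp, j.surjective.range_eq]; exact isClosed_univ
  have : IsAffine Z := isAffine_of_isAffineHom q
  obtain ⟨α, hα⟩ := Spec.map_surjective (Z.isoSpec.inv ≫ q)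
  obtain ⟨π₀, hπ₀⟩ := Spec.map_surjective (z ≫ Z.isoSpec.hom)
  have hπα : α ≫ π₀ = CommRingCat.ofHom (Ideal.Quotient.mk I) := Spec.map_injective (by
    rw [Spec.map_comp, hα, hπ₀, Category.assoc, Iso.hom_inv_id_assoc, hzq])
  let : Algebra A Γ(Z, ⊤) := α.hom.toAlgebra
  let π₁ : Γ(Z, ⊤) →ₐ[A] A ⧸ I :=
    { π₀.hom with commutes' := fun r => congr($hπα r) }
  let N := RingHom.ker π₁
  let π : Γ(Z, ⊤) ⧸ N ^ 2 →ₐ[A] A ⧸ I :=
    Ideal.Quotient.liftₐ (N ^ 2) π₁ fun x hx => Ideal.pow_le_self two_ne_zero hx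
  have hπ : RingHom.ker π ^ 2 = ⊥ := by
    have : RingHom.ker π ≤ N.map (Ideal.Quotient.mk (N ^ 2)) := fun x hx => by
      obtain ⟨x, rfl⟩ := Ideal.Quotient.mk_surjective x
      exact Ideal.mem_map_of_mem _ (show π₁ x = 0 from hx)
    refine le_bot_iff.1 ((pow_le_pow_left' this 2).trans ?_)
    rw [← Ideal.map_pow, Ideal.map_quotient_self]
  let M := Spec.map (CommRingCat.ofHom (Ideal.Quotient.mk (N ^ 2))) ≫ Z.isoSpec.inv
  refine ⟨Γ(Z, ⊤) ⧸ N ^ 2, inferInstance, inferInstance, π, M ≫ ι ≫ W.ι ≫ pullback.fst f b, hπ, ?_, ?_, ?_⟩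
  · have e : Spec.map (CommRingCat.ofHom π.toRingHom) ≫ M = z := by
      simp only [M, ← Spec.map_comp_assoc]
      rw [Iso.comp_inv_eq, ← hπ₀]
      rfl
    rw [reassoc_of% e, reassoc_of% hz]
    simp only [s₀', W, Scheme.Hom.liftCoborder_ι_assoc, s₀, pullback.lift_fst]
  · have e : M ≫ q = Spec.map (CommRingCat.ofHom (algebraMap A (Γ(Z, ⊤) ⧸ N ^ 2))) := by
      simp only [M, Category.assoc, ← hα, ← Spec.map_comp]
      rfl
    simp only [Category.assoc, pullback.condition]
    simpa only [q, Category.assoc] using congrArg (· ≫ b) e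
  intro A' _ _ I' hI' hII l hlf hla
  let sA : Spec (CommRingCat.of A') ⟶ Spec (CommRingCat.of A) :=
    Spec.map (CommRingCat.ofHom (algebraMap A A'))
  let i'' := NilLift.quotι I'
  have hi''s : Surjective i'' := NilLift.surjective_quotι I' ⟨2, by rw [hI']; rfl⟩
  let θ : A ⧸ I →+* A' ⧸ I' := Ideal.quotientMap I' (algebraMap A A') (Ideal.map_le_iff_le_comap.1 hII)
  let s : Spec (CommRingCat.of A') ⟶ pullback f b := pullback.lift l sA hlf
  have hθ : i'' ≫ sA = Spec.map (CommRingCat.ofHom θ) ≫ j := by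
    simp only [i'', j, sA, NilLift.quotι, θ, ← Spec.map_comp, ← CommRingCat.ofHom_comp, Ideal.quotientMap_comp_mk]
  have hi''s₀ : i'' ≫ s = Spec.map (CommRingCat.ofHom θ) ≫ s₀ := by
    apply pullback.hom_ext
    · simp only [s, s₀, Category.assoc, pullback.lift_fst]
      exact hla
    · simp only [s, s₀, Category.assoc, pullback.lift_snd]
      exact hθ
  have hi''W : i'' ≫ s = (Spec.map (CommRingCat.ofHom θ) ≫ s₀') ≫ W.ι := by
    simp only [hi''s₀, Category.assoc, s₀', W, Scheme.Hom.liftCoborder_ι]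
  have hsW : Set.range s ⊆ Set.range W.ι := by
    rintro _ ⟨y, rfl⟩
    obtain ⟨y, rfl⟩ := hi''s.surj y
    rw [← Scheme.Hom.comp_apply, hi''W]
    exact ⟨_, rfl⟩
  let s' := IsOpenImmersion.lift W.ι s hsW
  have hs' : s' ≫ W.ι = s := IsOpenImmersion.lift_fac _ _ _
  have hi''s' : i'' ≫ s' = Spec.map (CommRingCat.ofHom θ) ≫ s₀' := by
    rw [← cancel_mono W.ι, Category.assoc, hs', hi''W]
  have hKs : ι.ker ≤ s'.ker := by
    rw [Scheme.IdealSheafData.ker_subschemeι]
    refine le_trans ?_ (ker_comp_mul_le i'' (ker_mul_ker_eq_bot I' hI') s')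
    rw [hi''s']
    intro V
    simp only [K, Scheme.IdealSheafData.ideal_mul, Pi.mul_apply]
    exact Ideal.mul_mono (Scheme.Hom.le_ker_comp _ s₀' V) (Scheme.Hom.le_ker_comp _ s₀' V)
  let d : Spec (CommRingCat.of A') ⟶ Z := IsClosedImmersion.lift ι s' hKs
  have hd : d ≫ ι = s' := IsClosedImmersion.lift_fac _ _ _
  obtain ⟨δ₀, hδ₀⟩ := Spec.map_surjective (d ≫ Z.isoSpec.hom)
  have hdq : d ≫ q = sA := by simp only [q, reassoc_of% hd, reassoc_of% hs', s, pullback.lift_snd]
  have hδα : α ≫ δ₀ = CommRingCat.ofHom (algebraMap A A') := Spec.map_injective (by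
    rw [Spec.map_comp, hα, hδ₀, Category.assoc, Iso.hom_inv_id_assoc, hdq])
  have hid : i'' ≫ d = Spec.map (CommRingCat.ofHom θ) ≫ z := by
    rw [← cancel_mono ι, Category.assoc, Category.assoc, hd, hz, hi''s']
  have hmk : δ₀ ≫ CommRingCat.ofHom (Ideal.Quotient.mk I') = π₀ ≫ CommRingCat.ofHom θ := Spec.map_injective (by
    rw [Spec.map_comp, Spec.map_comp, hδ₀, hπ₀, ← Category.assoc, ← Category.assoc]
    exact congrArg (· ≫ Z.isoSpec.hom) hid)
  let δ₁ : Γ(Z, ⊤) →ₐ[A] A' := { δ₀.hom with commutes' := fun r => congr($hδα r) }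
  have hδI : ∀ (c : Γ(Z, ⊤)) (r : A), π₁ c = Ideal.Quotient.mk I r → δ₁ c - algebraMap A A' r ∈ I' := fun c r hc => by
    rw [← Ideal.Quotient.eq_zero_iff_mem, map_sub, sub_eq_zero]
    refine (congr($hmk c)).trans ?_
    change θ (π₁ c) = _
    rw [hc]
    exact Ideal.quotientMap_mk
  have hN2 : N ^ 2 ≤ RingHom.ker δ₁ := by
    rw [pow_two, Ideal.mul_le]
    intro u hu v hv
    rw [RingHom.mem_ker, map_mul, ← Ideal.mem_bot, ← hI', pow_two]
    refine Ideal.mul_mem_mul ?_ ?_
    · simpa using hδI u 0 (by rw [map_zero]; exact hu)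
    · simpa using hδI v 0 (by rw [map_zero]; exact hv)
  let δ : Γ(Z, ⊤) ⧸ N ^ 2 →ₐ[A] A' := Ideal.Quotient.liftₐ (N ^ 2) δ₁ fun x hx => hN2 hx
  have hδM : Spec.map (CommRingCat.ofHom δ.toRingHom) ≫ M = d := by
    simp only [M, ← Spec.map_comp_assoc]
    rw [Iso.comp_inv_eq, ← hδ₀]
    rfl
  refine ⟨δ, ⟨fun c r hc => ?_, ?_⟩, fun δ' ⟨_, hl'⟩ => ?_⟩
  · obtain ⟨c, rfl⟩ := Ideal.Quotient.mk_surjective c
    exact hδI c r hc
  · rw [reassoc_of% hδM, reassoc_of% hd, reassoc_of% hs']
    simp only [s, pullback.lift_fst]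
  · have hq' : Spec.map (CommRingCat.ofHom δ'.toRingHom) ≫ M ≫ q = sA := by
      simp only [M, sA, Category.assoc, ← hα, ← Spec.map_comp]
      congr 1
      ext r
      exact δ'.commutes r
    have key : Spec.map (CommRingCat.ofHom δ'.toRingHom) ≫ M =
        Spec.map (CommRingCat.ofHom δ.toRingHom) ≫ M := by
      rw [hδM, ← cancel_mono ι, ← cancel_mono W.ι]
      apply pullback.hom_ext
      · simp only [Category.assoc, reassoc_of% hd, reassoc_of% hs', s, pullback.lift_fst]
        exact hl'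
      · simp only [Category.assoc, reassoc_of% hd, reassoc_of% hs', s, pullback.lift_snd]
        exact hq'
    simp only [M, ← Category.assoc] at key
    rw [cancel_mono, ← Spec.map_comp, ← Spec.map_comp] at key
    have key := Spec.map_injective key
    refine AlgHom.ext fun c => ?_
    obtain ⟨c, rfl⟩ := Ideal.Quotient.mk_surjective c
    exact congr($key c)

end Groth.Agent.SmoothLift
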