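import Groth.Agent.CAlgML.Descent
import Mathlib.RingTheory.Ideal.Quotient.Operations
import Mathlib.RingTheory.Localization.Away.Basic
import Mathlib.RingTheory.Flat.FaithfullyFlat.Algebra
import Mathlib.RingTheory.Spectrum.Prime.RingHom
import Mathlib.Algebra.TrivSqZeroExt.Basic

/-!
Global sections of a square-zero extension which has relative local lifts.

Let `C → A ⧸ I` be a square-zero extension of `A`-algebras with `I ^ 2 = 0`. A lift `C → A` is the same as
a splitting of `0 → I → N → Q → 0`; local relative lifts show that `Q` is projective on the members of a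
Zariski cover, hence projective by descent.
-/

set_option autoImplicit false

universe u

open TensorProduct

namespace Groth.Agent.SmoothLift

variable {A : Type u} [CommRing A] {I : Ideal A} {C : Type u} [CommRing C] [Algebra A C]

/-- Relative lifting of square-zero extensions, for test algebras with the property `P`. -/
def LiftsWith (π : C →ₐ[A] A ⧸ I) (P : ∀ (A' : Type u) [CommRing A'] [Algebra A A'], Prop) : Prop :=
  ∀ (A' A'' : Type u) [CommRing A'] [CommRing A''] [Algebra A A'] [Algebra A A''] (φ : A' →ₐ[A] A''),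
    Function.Surjective φ → P A' →
    ∀ I'' : Ideal A', I'' ^ 2 = ⊥ → RingHom.ker φ ≤ I'' → I.map (algebraMap A A') ≤ I'' →
    ∀ η : C →ₐ[A] A'',
      (∀ (c : C) (a : A) (x : A'), π c = Ideal.Quotient.mk I a → φ x = η c → x - algebraMap A A' a ∈ I'') →
    ∃ δ : C →ₐ[A] A', φ.comp δ = η

/-- Relative lifting of square-zero extensions over the basic open of `g`. -/
abbrev LiftsAt (π : C →ₐ[A] A ⧸ I) (g : A) : Prop :=
  LiftsWith π fun A' _ _ => IsUnit (algebraMap A A' g)

variable {π : C →ₐ[A] A ⧸ I}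

theorem algebraMap_eq_zero_of (hI : I ^ 2 = ⊥) {P : ∀ (A' : Type u) [CommRing A'] [Algebra A A'], Prop}
    (h : LiftsWith π P) (A' : Type u) [CommRing A'] [Algebra A A'] (hP : P A') {a : A}
    (ha : algebraMap A C a = 0) : algebraMap A A' a = 0 := by
  let I' : Ideal A' := I.map (algebraMap A A')
  let η : C →ₐ[A] A' ⧸ I' :=
    (Ideal.quotientMapₐ I' (Algebra.ofId A A') Ideal.le_comap_map).comp π
  obtain ⟨δ, -⟩ := h A' (A' ⧸ I') (Ideal.Quotient.mkₐ A I') (Ideal.Quotient.mkₐ_surjective A I')
    hP I'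
    (by rw [← Ideal.map_pow, hI, Ideal.map_bot]) (Ideal.Quotient.mkₐ_ker A I').le le_rfl η
    (fun c b x hc hx => by
      rw [← Ideal.Quotient.eq_zero_iff_mem, map_sub, sub_eq_zero]
      refine hx.trans ?_
      simp only [η, AlgHom.comp_apply, hc]
      rfl)
  rw [← δ.commutes, ha, map_zero]

theorem eq_zero_of_algebraMap {ι : Type u} {g : ι → A} (hI : I ^ 2 = ⊥)
    (hg : Ideal.span (Set.range g) = ⊤) (h : ∀ i, LiftsAt π (g i)) {a : A} (ha : algebraMap A C a = 0) :
    a = 0 := by
  let J : Ideal A := LinearMap.ker (LinearMap.toSpanSingleton A A a)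
  suffices hJ : J = ⊤ by
    have : (1 : A) ∈ J := hJ ▸ trivial
    simpa [J] using this
  rw [← Ideal.radical_eq_top, ← top_le_iff, ← hg, Ideal.span_le]
  rintro _ ⟨i, rfl⟩
  let A' := Localization.Away (g i)
  have h0 := algebraMap_eq_zero_of hI (h i) A' (IsLocalization.Away.algebraMap_isUnit (g i)) ha
  obtain ⟨⟨_, n, rfl⟩, hn⟩ := (IsLocalization.map_eq_zero_iff (Submonoid.powers (g i)) A' a).1 h0
  exact ⟨n, by simpa [J] using hn⟩

variable (A C) in
/-- The cokernel of the structure map. -/
abbrev Coker : Type u := C ⧸ LinearMap.range (Algebra.linearMap A C)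

variable (A C) in
/-- The projection to the cokernel. -/
abbrev der : C →ₗ[A] Coker A C := Submodule.mkQ _

theorem der_algebraMap (a : A) : der A C (algebraMap A C a) = 0 :=
  (Submodule.Quotient.mk_eq_zero _).2 ⟨a, rfl⟩

theorem mk_algebraMap (a : A) : (Submodule.Quotient.mk (algebraMap A C a) : Coker A C) = 0 :=
  der_algebraMap a

variable (hπ : RingHom.ker π ^ 2 = ⊥)
include hπ

theorem mul_eq_zero_of_ker {x y : C} (hx : π x = 0) (hy : π y = 0) : x * y = 0 := by
  have : x * y ∈ RingHom.ker π ^ 2 := by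
    rw [pow_two]; exact Ideal.mul_mem_mul hx hy
  rwa [hπ] at this

omit hπ in
theorem exists_decomp (c : C) : ∃ (a : A) (u : C), π u = 0 ∧ c = algebraMap A C a + u := by
  obtain ⟨a, ha⟩ := Ideal.Quotient.mk_surjective (π c)
  exact ⟨a, c - algebraMap A C a, by
    rw [map_sub, AlgHom.commutes, Ideal.Quotient.algebraMap_eq, ha, sub_self], (add_sub_cancel _ _).symm⟩

theorem isTorsion : Module.IsTorsionBySet A (Coker A C) I := by
  rintro x ⟨i, hi⟩
  obtain ⟨c, rfl⟩ := Submodule.mkQ_surjective _ x
  obtain ⟨a, u, hu, rfl⟩ := exists_decomp (π := π) c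
  change i • der A C _ = 0
  rw [← map_smul, Algebra.smul_def, mul_add, ← map_mul, mul_eq_zero_of_ker hπ ?_ hu, add_zero, der_algebraMap]
  rw [AlgHom.commutes, Ideal.Quotient.algebraMap_eq]
  exact Ideal.Quotient.eq_zero_iff_mem.2 hi

theorem der_mul [Module (A ⧸ I) (Coker A C)] [IsScalarTower A (A ⧸ I) (Coker A C)] (c c' : C) :
    der A C (c * c') = π c • der A C c' + π c' • der A C c := by
  obtain ⟨a, u, hu, rfl⟩ := exists_decomp (π := π) c
  obtain ⟨a', u', hu', rfl⟩ := exists_decomp (π := π) c'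
  have e : (algebraMap A C a + u) * (algebraMap A C a' + u') =
      algebraMap A C (a * a') + (a • u' + a' • u) := by
    rw [Algebra.smul_def, Algebra.smul_def, map_mul]
    linear_combination mul_eq_zero_of_ker hπ hu hu'
  rw [e, map_add π, map_add π, hu, hu', add_zero, add_zero, AlgHom.commutes, AlgHom.commutes,
    algebraMap_smul, algebraMap_smul]
  simp only [map_add, map_smul, der_algebraMap, zero_add]

variable [Module (A ⧸ I) (Coker A C)] [IsScalarTower A (A ⧸ I) (Coker A C)]

/-- Local splitting of a free presentation of the cokernel. -/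
theorem exists_local_section (L : Type u) [CommRing L] [Algebra (A ⧸ I) L] [Algebra A L]
    [IsScalarTower A (A ⧸ I) L] {P : ∀ (A' : Type u) [CommRing A'] [Algebra A A'], Prop} (hg : LiftsWith π P)
    {F : Type u} [AddCommGroup F] [Module (A ⧸ I) F]
    (v : F →ₗ[A ⧸ I] Coker A C)
    (hv : Function.Surjective v) (hu : P (TrivSqZeroExt L (L ⊗[A ⧸ I] F))) :
    ∃ σ : Coker A C →ₗ[A ⧸ I] L ⊗[A ⧸ I] F, ∀ x, v.lTensor L (σ x) = 1 ⊗ₜ x := by
  let φ : TrivSqZeroExt L (L ⊗[A ⧸ I] F) →ₐ[A] TrivSqZeroExt L (L ⊗[A ⧸ I] Coker A C) :=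
    (TrivSqZeroExt.map (v.baseChange L)).restrictScalars A
  let η : C →ₐ[A] TrivSqZeroExt L (L ⊗[A ⧸ I] Coker A C) :=
    { toFun c := TrivSqZeroExt.inl (algebraMap (A ⧸ I) L (π c)) + TrivSqZeroExt.inr (1 ⊗ₜ der A C c)
      map_one' := by
        ext
        · simp
        · have : der A C 1 = 0 := by rw [← map_one (algebraMap A C), der_algebraMap]
          simp [this]
      map_mul' c c' := by
        ext
        · simp
        · simp [der_mul hπ, tmul_add, tmul_smul, op_smul_eq_smul]
      map_zero' := by ext <;> simp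
      map_add' c c' := by ext <;> simp [tmul_add]
      commutes' a := by
        ext
        · simp [IsScalarTower.algebraMap_apply A (A ⧸ I) L, TrivSqZeroExt.algebraMap_eq_inl']
        · simp [mk_algebraMap, TrivSqZeroExt.algebraMap_eq_inl'] }
  let I'' : Ideal (TrivSqZeroExt L (L ⊗[A ⧸ I] F)) := RingHom.ker (TrivSqZeroExt.fstHom L L (L ⊗[A ⧸ I] F))
  have hI'' : I'' ^ 2 = ⊥ := by
    rw [pow_two, ← le_bot_iff, Ideal.mul_le]
    intro x (hx : x.fst = 0) y (hy : y.fst = 0)
    rw [Ideal.mem_bot]
    ext <;> simp [hx, hy]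
  obtain ⟨δ, hδ⟩ := hg _ _ φ
    (fun y => by
      obtain ⟨m, hm⟩ := (LinearMap.lTensor_surjective L hv) y.snd
      refine ⟨TrivSqZeroExt.inl y.fst + TrivSqZeroExt.inr m, ?_⟩
      ext
      · simp [φ]
      · simpa [φ, LinearMap.baseChange_eq_ltensor] using hm)
    hu
    I'' hI''
    (fun x (hx : φ x = 0) => show x.fst = 0 by simpa [φ] using congrArg TrivSqZeroExt.fst hx)
    (Ideal.map_le_iff_le_comap.2 fun i hi => show (algebraMap A (TrivSqZeroExt L _) i).fst = 0 by
      simp [TrivSqZeroExt.algebraMap_eq_inl', IsScalarTower.algebraMap_apply A (A ⧸ I) L,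
        Ideal.Quotient.eq_zero_iff_mem.2 hi])
    η
    (fun c a x hc hx => show (x - algebraMap A _ a).fst = 0 by
      have := congrArg TrivSqZeroExt.fst hx
      simp [φ, η, hc] at this
      simp [this, TrivSqZeroExt.algebraMap_eq_inl', IsScalarTower.algebraMap_apply A (A ⧸ I) L])
  let s₀ : C →ₗ[A] L ⊗[A ⧸ I] F :=
    { toFun c := (δ c).snd
      map_add' c c' := by simp
      map_smul' a c := by simp }
  let s : Coker A C →ₗ[A] L ⊗[A ⧸ I] F := Submodule.liftQ _ s₀ (by
    rintro _ ⟨a, rfl⟩
    simp [s₀, TrivSqZeroExt.algebraMap_eq_inl'])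
  refine ⟨LinearMap.extendScalarsOfSurjective Ideal.Quotient.mk_surjective s, fun x => ?_⟩
  obtain ⟨c, rfl⟩ := Submodule.mkQ_surjective _ x
  have := congrArg TrivSqZeroExt.snd (DFunLike.congr_fun hδ c)
  simpa [φ, η, s, s₀, LinearMap.baseChange_eq_ltensor] using this

omit hπ in
theorem projective_of_section {B Q F S : Type u} [CommRing B] [AddCommGroup Q] [Module B Q]
    [AddCommGroup F] [Module B F] [Module.Free B F] [CommRing S] [Algebra B S] [Module.FaithfullyFlat B S]
    (v : F →ₗ[B] Q) (T : Q →ₗ[B] S ⊗[B] F) (hT : ∀ x, v.lTensor S (T x) = 1 ⊗ₜ x) :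
    Module.Projective B Q := by
  have hsec : (v.baseChange S).comp (LinearMap.liftBaseChange S T) = LinearMap.id := by
    ext x
    simpa [LinearMap.baseChange_eq_ltensor] using hT x
  have : Module.Projective S (S ⊗[B] Q) := Module.Projective.of_split _ _ hsec
  exact CAlgML.projective_of_faithfullyFlat (S := S)

theorem projective_coker {ι : Type u} [Finite ι] {g : ι → A} (hg : Ideal.span (Set.range g) = ⊤)
    (h : ∀ i, LiftsAt π (g i)) : Module.Projective (A ⧸ I) (Coker A C) := by
  classical
  have := Fintype.ofFinite ι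
  let B := A ⧸ I
  let L : ι → Type u := fun i => Localization.Away (Ideal.Quotient.mk I (g i))
  let S := ∀ i, L i
  have : Module.FaithfullyFlat B S := by
    have : ∀ i, Module.Flat B (L i) := fun i => IsLocalization.flat (L i) (Submonoid.powers (Ideal.Quotient.mk I (g i)))
    refine Module.FaithfullyFlat.of_comap_surjective fun P => ?_
    obtain ⟨i, hi⟩ : ∃ i, Ideal.Quotient.mk I (g i) ∉ P.asIdeal := by
      by_contra! hc
      refine P.isPrime.ne_top (top_le_iff.1 ?_)
      rw [← Ideal.map_top (Ideal.Quotient.mk I), ← hg, Ideal.map_span, Ideal.span_le]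
      rintro _ ⟨_, ⟨i, rfl⟩, rfl⟩
      exact hc i
    obtain ⟨P', hP'⟩ : P ∈ Set.range (PrimeSpectrum.comap (algebraMap B (L i))) := by
      rw [PrimeSpectrum.localization_away_comap_range (L i) (Ideal.Quotient.mk I (g i))]
      exact hi
    refine ⟨PrimeSpectrum.comap (Pi.evalRingHom L i) P', ?_⟩
    rw [← PrimeSpectrum.comap_comp_apply]
    exact hP'
  let F := Coker A C →₀ B
  let v : F →ₗ[B] Coker A C := Finsupp.linearCombination B id
  have hv : Function.Surjective v := fun x => ⟨Finsupp.single x 1, (Finsupp.linearCombination_single B (1 : B) x).trans (one_smul B x)⟩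
  have hu : ∀ i, IsUnit (algebraMap A (L i) (g i)) := fun i => by
    rw [IsScalarTower.algebraMap_apply A B (L i)]
    exact IsLocalization.Away.algebraMap_isUnit (Ideal.Quotient.mk I (g i))
  choose σ hσ using fun i => exists_local_section hπ (L i) (h i) v hv (by
    rw [TrivSqZeroExt.algebraMap_eq_inl']; exact TrivSqZeroExt.isUnit_iff_isUnit_fst.2 (by simpa using hu i))
  let T : Coker A C →ₗ[B] S ⊗[B] F := ∑ i, (LinearMap.single B L i).rTensor F ∘ₗ σ i
  have hT : ∀ x, v.lTensor S (T x) = 1 ⊗ₜ x := fun x => by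
    have key : ∀ i (y : L i ⊗[B] F), v.lTensor S ((LinearMap.single B L i).rTensor F y) =
        (LinearMap.single B L i).rTensor (Coker A C) (v.lTensor (L i) y) := fun i y => by
      induction y with
      | zero => simp only [map_zero]
      | tmul a b => rfl
      | add a b ha hb => simp only [map_add, ha, hb]
    simp only [T, LinearMap.sum_apply, LinearMap.comp_apply, map_sum, key, hσ]
    refine (Finset.sum_congr rfl fun i _ => show _ = (Pi.single i 1 : S) ⊗ₜ[B] x from rfl).trans ?_
    rw [← sum_tmul]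
    congr 1
    exact Finset.univ_sum_single (1 : S)
  exact projective_of_section v T hT

omit [Module (A ⧸ I) (Coker A C)] [IsScalarTower A (A ⧸ I) (Coker A C)] in
/-- A square-zero extension with relative local lifts has a section. -/
theorem exists_section_of (hinj : Function.Injective (algebraMap A C))
    (hproj : ∀ [Module (A ⧸ I) (Coker A C)] [IsScalarTower A (A ⧸ I) (Coker A C)],
      Module.Projective (A ⧸ I) (Coker A C)) :
    ∃ δ : C →ₐ[A] A, (Ideal.Quotient.mkₐ A I).comp δ = π := by
  let N : Submodule A C := LinearMap.ker π.toLinearMap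
  let mQ := (isTorsion hπ).module
  have : IsScalarTower A (A ⧸ I) (Coker A C) := (isTorsion hπ).isScalarTower
  have := @hproj mQ this
  have htN : Module.IsTorsionBySet A N I := by
    rintro ⟨x, (hx : π x = 0)⟩ ⟨i, hi⟩
    refine Subtype.ext ?_
    change i • x = 0
    rw [Algebra.smul_def]
    refine mul_eq_zero_of_ker hπ ?_ hx
    rw [AlgHom.commutes, Ideal.Quotient.algebraMap_eq]
    exact Ideal.Quotient.eq_zero_iff_mem.2 hi
  let mN := htN.module
  have : IsScalarTower A (A ⧸ I) N := htN.isScalarTower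
  let q : N →ₗ[A ⧸ I] Coker A C :=
    LinearMap.extendScalarsOfSurjective Ideal.Quotient.mk_surjective ((der A C).comp N.subtype)
  have hq : Function.Surjective q := fun x => by
    obtain ⟨c, rfl⟩ := Submodule.mkQ_surjective _ x
    obtain ⟨a, u, hu, rfl⟩ := exists_decomp (π := π) c
    exact ⟨⟨u, hu⟩, by simp [q, mk_algebraMap]⟩
  obtain ⟨σ, hσ⟩ := Module.projective_lifting_property q LinearMap.id hq
  let τ : C →ₗ[A] C := N.subtype ∘ₗ σ.restrictScalars A ∘ₗ der A C
  have hτ : ∀ c, π (τ c) = 0 := fun c => (σ (der A C c)).2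
  have hder : ∀ c, der A C (τ c) = der A C c := fun c => DFunLike.congr_fun hσ (der A C c)
  have hex : ∀ c, ∃ a, algebraMap A C a = c - τ c := fun c => by
    have : c - τ c ∈ LinearMap.range (Algebra.linearMap A C) :=
      (Submodule.Quotient.mk_eq_zero _).1 (show der A C (c - τ c) = 0 by rw [map_sub, hder, sub_self])
    exact this
  choose δ hδ using hex
  have hτa : ∀ a, τ (algebraMap A C a) = 0 := fun a => by simp [τ, mk_algebraMap]
  have hδa : ∀ a, δ (algebraMap A C a) = a := fun a => hinj (by rw [hδ, hτa, sub_zero])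
  refine ⟨{ toFun := δ, map_one' := ?_, map_mul' := ?_, map_zero' := ?_, map_add' := ?_, commutes' := hδa }, ?_⟩
  · simpa using hδa 1
  · intro c c'
    apply hinj
    rw [map_mul, hδ, hδ, hδ]
    have e : τ (c * c') = δ c • τ c' + δ c' • τ c := by
      have e₁ : ∀ d, π d = Ideal.Quotient.mk I (δ d) := fun d => by
        have := congrArg π (hδ d)
        rw [AlgHom.commutes, Ideal.Quotient.algebraMap_eq, map_sub, hτ, sub_zero] at this
        exact this.symm
      have : der A C (c * c') = δ c • der A C c' + δ c' • der A C c := by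
        rw [der_mul hπ, e₁ c, e₁ c', ← Ideal.Quotient.algebraMap_eq, algebraMap_smul, algebraMap_smul]
      simp only [τ, LinearMap.comp_apply, this, map_add, map_smul]
    rw [e, Algebra.smul_def, Algebra.smul_def, hδ, hδ]
    linear_combination mul_eq_zero_of_ker hπ (hτ c) (hτ c')
  · simpa using hδa 0
  · intro c c'
    exact hinj (by rw [map_add, hδ, hδ, hδ, map_add]; abel)
  · refine AlgHom.ext fun c => ?_
    change Ideal.Quotient.mk I (δ c) = π c
    have := congrArg π (hδ c)
    rw [AlgHom.commutes, Ideal.Quotient.algebraMap_eq, map_sub, hτ, sub_zero] at this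
    exact this

omit [Module (A ⧸ I) (Coker A C)] [IsScalarTower A (A ⧸ I) (Coker A C)] in
/-- A square-zero extension with relative local lifts has a section. -/
theorem exists_section (hI : I ^ 2 = ⊥) {ι : Type u} [Finite ι] {g : ι → A}
    (hg : Ideal.span (Set.range g) = ⊤) (h : ∀ i, LiftsAt π (g i)) :
    ∃ δ : C →ₐ[A] A, (Ideal.Quotient.mkₐ A I).comp δ = π :=
  exists_section_of hπ ((injective_iff_map_eq_zero _).2 fun _ => eq_zero_of_algebraMap hI hg h)
    (fun {_ _} => projective_coker hπ hg h)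

omit [Module (A ⧸ I) (Coker A C)] [IsScalarTower A (A ⧸ I) (Coker A C)] in
/-- A square-zero extension with relative lifts over a faithfully flat algebra has a section. -/
theorem exists_section_ff (hI : I ^ 2 = ⊥) (Q : Type u) [CommRing Q] [Algebra A Q] [Module.FaithfullyFlat A Q]
    (h : LiftsWith π fun A' _ _ => Nonempty (Q →ₐ[A] A')) :
    ∃ δ : C →ₐ[A] A, (Ideal.Quotient.mkₐ A I).comp δ = π := by
  refine exists_section_of hπ ?_ fun {_ _} => ?_
  · exact (injective_iff_map_eq_zero _).2 fun a ha => FaithfulSMul.algebraMap_injective A Q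
      ((algebraMap_eq_zero_of hI h Q ⟨AlgHom.id A Q⟩ ha).trans (map_zero _).symm)
  · let F := Coker A C →₀ A ⧸ I
    let v : F →ₗ[A ⧸ I] Coker A C := Finsupp.linearCombination (A ⧸ I) id
    have hv : Function.Surjective v := fun x =>
      ⟨Finsupp.single x 1, (Finsupp.linearCombination_single (A ⧸ I) (1 : A ⧸ I) x).trans (one_smul _ x)⟩
    obtain ⟨σ, hσ⟩ := exists_local_section hπ ((A ⧸ I) ⊗[A] Q) h v hv
      ⟨((TrivSqZeroExt.inlAlgHom A ((A ⧸ I) ⊗[A] Q) _).comp
        (Algebra.TensorProduct.includeRight (R := A) (A := A ⧸ I) (B := Q)))⟩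
    exact projective_of_section v σ hσ

end Groth.Agent.SmoothLift
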