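import Groth.Agent.SmoothLift.Algebra
import Groth.Agent.FlatMorLib.FormallyEtale
import Groth.Agent.NilLift.Thickening
import Mathlib.AlgebraicGeometry.Morphisms.Affine

/-!
The infinitesimal lifting property over affine bases is Zariski local on the source.
-/

set_option autoImplicit false
set_option backward.isDefEq.respectTransparency false
set_option maxHeartbeats 800000

universe u

open CategoryTheory CategoryTheory.Limits AlgebraicGeometry TopologicalSpace Opposite

namespace Groth.Agent.SmoothLift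

/-- The infinitesimal lifting property along a surjection with square-zero kernel. -/
theorem lift_of_surjective {X Y : Scheme.{u}} {f : X ⟶ Y} (hf : MoreMor.IsFormallySmoothHom f)
    {A' A'' : Type u} [CommRing A'] [CommRing A''] (φ : A' →+* A'') (hφ : Function.Surjective φ)
    (hker : RingHom.ker φ ^ 2 = ⊥) (a : Spec (CommRingCat.of A'') ⟶ X) (b : Spec (CommRingCat.of A') ⟶ Y)
    (w : Spec.map (CommRingCat.ofHom φ) ≫ b = a ≫ f) :
    ∃ l, Spec.map (CommRingCat.ofHom φ) ≫ l = a ∧ l ≫ f = b := by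
  let K := RingHom.ker φ
  let lam : A' ⧸ K →+* A'' := RingHom.kerLift φ
  let ρ : A'' →+* A' ⧸ K :=
    φ.liftOfSurjective hφ ⟨Ideal.Quotient.mk K, by rw [Ideal.mk_ker]⟩
  have hρ : ρ.comp φ = Ideal.Quotient.mk K := φ.liftOfSurjective_comp hφ _
  have e₁ : Spec.map (CommRingCat.ofHom ρ) ≫ Spec.map (CommRingCat.ofHom φ) =
      Spec.map (CommRingCat.ofHom (Ideal.Quotient.mk K)) := by
    rw [← Spec.map_comp, ← CommRingCat.ofHom_comp, hρ]
  have e₂ : Spec.map (CommRingCat.ofHom lam) ≫ Spec.map (CommRingCat.ofHom ρ) = 𝟙 _ := by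
    rw [← Spec.map_comp, ← CommRingCat.ofHom_comp, ← Spec.map_id, ← CommRingCat.ofHom_id]
    congr 2
    refine RingHom.ext fun y => ?_
    obtain ⟨x, rfl⟩ := hφ y
    simp only [RingHom.comp_apply, RingHom.id_apply]
    rw [← RingHom.comp_apply ρ φ, hρ]
    rfl
  obtain ⟨l, h₁, h₂⟩ := hf A' K hker (Spec.map (CommRingCat.ofHom ρ) ≫ a) b
    (by rw [← e₁, Category.assoc, w, Category.assoc])
  refine ⟨l, ?_, h₂⟩
  calc Spec.map (CommRingCat.ofHom φ) ≫ l
      = Spec.map (CommRingCat.ofHom lam) ≫ Spec.map (CommRingCat.ofHom (Ideal.Quotient.mk K)) ≫ l := by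
        rw [← Spec.map_comp_assoc, ← CommRingCat.ofHom_comp]; rfl
    _ = a := by rw [h₁, reassoc_of% e₂]

/-- The affine case. -/
theorem isFormallySmoothHom_SpecMap {R S : CommRingCat.{u}} (φ : R ⟶ S) (h : φ.hom.FormallySmooth) :
    MoreMor.IsFormallySmoothHom (Spec.map φ) := by
  algebraize [φ.hom]
  intro B _ I hI a b w
  obtain ⟨a, rfl⟩ := Spec.map_surjective a
  obtain ⟨b, rfl⟩ := Spec.map_surjective b
  rw [← Spec.map_comp, ← Spec.map_comp] at w
  have w' := Spec.map_injective w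
  algebraize [b.hom]
  let g₀ : S →ₐ[R] B ⧸ I := ⟨a.hom, fun r ↦ congr($w' r).symm⟩
  obtain ⟨g, hg⟩ := Algebra.FormallySmooth.iff_comp_surjective.mp h I hI g₀
  refine ⟨Spec.map (CommRingCat.ofHom g.toRingHom), ?_, ?_⟩
  · rw [← Spec.map_comp]
    congr 1
    ext s
    exact congr($hg s)
  · rw [← Spec.map_comp]
    congr 1
    ext r
    exact g.commutes r

theorem isFormallySmoothHom_ι_comp {X Y : Scheme.{u}} (f : X ⟶ Y) {U : X.Opens} {V : Y.Opens}
    (hU : IsAffineOpen U) (hV : IsAffineOpen V) (hUV : U ≤ f ⁻¹ᵁ V)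
    (h : (f.appLE V U hUV).hom.FormallySmooth) : MoreMor.IsFormallySmoothHom (U.ι ≫ f) := by
  have hs : ∀ {P Q : Scheme.{u}} (e : P ⟶ Q) [IsOpenImmersion e], MoreMor.IsFormallySmoothHom e :=
    fun e _ => FlatMorLib.isFormallySmoothHom_of_isFormallyEtaleHom
      (FlatMorLib.isFormallyEtaleHom_of_isOpenImmersion e)
  have e : U.ι ≫ f = hU.isoSpec.hom ≫ Spec.map (f.appLE V U hUV) ≫ hV.fromSpec := by
    rw [hV.SpecMap_appLE_fromSpec f hU hUV, IsAffineOpen.isoSpec_hom, IsAffineOpen.toSpecΓ_fromSpec_assoc]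
  rw [e]
  exact FlatMorLib.isFormallySmoothHom_comp (hs _)
    (FlatMorLib.isFormallySmoothHom_comp (isFormallySmoothHom_SpecMap _ h) (hs _))

/-- A closed subscheme with square-zero ideal has square-zero ideals of sections. -/
theorem mul_eq_zero_of_app_eq_zero {P Q : Scheme.{u}} (i : P ⟶ Q) [IsClosedImmersion i]
    (hi : i.ker * i.ker = ⊥) {O : Q.Opens} {x y : Γ(Q, O)} (hx : i.app O x = 0) (hy : i.app O y = 0) :
    x * y = 0 := by
  choose V hV hzV using fun z : O => exists_isAffineOpen_mem_and_subset (x := z.1) z.2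
  refine Q.sheaf.eq_of_locally_eq' V O (fun z => homOfLE (hzV z).2)
    (fun z hz => Opens.mem_iSup.2 ⟨⟨z, hz⟩, (hzV ⟨z, hz⟩).1⟩) _ _ fun z => ?_
  have key : ∀ t : Γ(Q, O), i.app O t = 0 →
      Q.presheaf.map (homOfLE (hzV z).2).op t ∈ i.ker.ideal ⟨V z, hV z⟩ := fun t ht => by
    rw [Scheme.Hom.ker_apply, RingHom.mem_ker, ← CommRingCat.comp_apply, i.naturality,
      CommRingCat.comp_apply, ht, map_zero]
  have h0 : (i.ker * i.ker).ideal ⟨V z, hV z⟩ = ⊥ := by rw [hi]; rfl
  rw [Scheme.IdealSheafData.ideal_mul, Pi.mul_apply] at h0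
  have h1 := Ideal.mul_mem_mul (key x hx) (key y hy)
  rw [h0, Ideal.mem_bot, ← map_mul] at h1
  exact h1.trans (map_zero _).symm

theorem ker_comp_mul_le {P Q W : Scheme.{u}} (i : P ⟶ Q) [IsClosedImmersion i] (hi : i.ker * i.ker = ⊥)
    (s : Q ⟶ W) : (i ≫ s).ker * (i ≫ s).ker ≤ s.ker := by
  refine Scheme.IdealSheafData.le_ofIdeals_iff.2 fun U => ?_
  rw [Scheme.IdealSheafData.ideal_mul, Pi.mul_apply, Ideal.mul_le]
  intro x hx y hy
  have hx' := (i ≫ s).ideal_ker_le U hx
  have hy' := (i ≫ s).ideal_ker_le U hy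
  rw [RingHom.mem_ker, Scheme.Hom.comp_app, CommRingCat.comp_apply] at hx' hy'
  rw [RingHom.mem_ker, map_mul]
  exact mul_eq_zero_of_app_eq_zero i hi hx' hy'

theorem ker_mul_ker_eq_bot {A : Type u} [CommRing A] (I : Ideal A) (hI : I ^ 2 = ⊥) :
    (NilLift.quotι I).ker * (NilLift.quotι I).ker = ⊥ := by
  refine Scheme.IdealSheafData.ext_of_isAffine ?_
  rw [Scheme.IdealSheafData.ideal_mul, Pi.mul_apply, Scheme.Hom.ker_apply,
    Scheme.IdealSheafData.ideal_bot, Pi.bot_apply, ← le_bot_iff, Ideal.mul_le]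
  intro x hx y hy
  rw [Ideal.mem_bot]
  let e := (Scheme.ΓSpecIso (CommRingCat.of A)).commRingCatIsoToRingEquiv
  have key : ∀ t, (NilLift.quotι I).appTop t = 0 → e t ∈ I := fun t ht => by
    rw [← Ideal.Quotient.eq_zero_iff_mem]
    have h := ConcreteCategory.congr_hom
      (Scheme.ΓSpecIso_naturality (CommRingCat.ofHom (Ideal.Quotient.mk I))) t
    rw [CommRingCat.comp_apply, CommRingCat.comp_apply, ht, map_zero] at h
    exact h.symm
  apply e.injective
  rw [map_mul, map_zero, ← Ideal.mem_bot, ← hI, pow_two]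
  exact Ideal.mul_mem_mul (key x hx) (key y hy)

/-- A morphism which is formally smooth near every point of the source is formally smooth. -/
theorem isFormallySmoothHom_of_locally {X Y : Scheme.{u}} (f : X ⟶ Y)
    (h : ∀ x : X, ∃ U : X.Opens, x ∈ U ∧ MoreMor.IsFormallySmoothHom (U.ι ≫ f)) :
    MoreMor.IsFormallySmoothHom f := by
  intro A _ I hI a b w
  let j := NilLift.quotι I
  have hjs : Surjective j := NilLift.surjective_quotι I ⟨2, by rw [hI]; rfl⟩
  let s₀ : Spec (CommRingCat.of (A ⧸ I)) ⟶ pullback f b := pullback.lift a j w.symm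
  have hs₀ : s₀ ≫ pullback.snd f b = j := pullback.lift_snd _ _ _
  have : IsImmersion (s₀ ≫ pullback.snd f b) := by rw [hs₀]; infer_instance
  have : IsImmersion s₀ := IsImmersion.of_comp s₀ (pullback.snd f b)
  let W := s₀.coborderRange
  let s₀' := s₀.liftCoborder
  let K := s₀'.ker * s₀'.ker
  let Z := K.subscheme
  let ι := K.subschemeι
  have hK : ι.ker ≤ s₀'.ker := by
    rw [Scheme.IdealSheafData.ker_subschemeι]
    intro U
    simp only [K, Scheme.IdealSheafData.ideal_mul, Pi.mul_apply]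
    exact Ideal.mul_le_right
  let z : Spec (CommRingCat.of (A ⧸ I)) ⟶ Z := IsClosedImmersion.lift ι s₀' hK
  have hz : z ≫ ι = s₀' := IsClosedImmersion.lift_fac _ _ _
  have : IsClosedImmersion (z ≫ ι) := by rw [hz]; infer_instance
  have : IsClosedImmersion z := IsClosedImmersion.of_comp z ι
  have hzs : Function.Surjective z := fun y => by
    have : ι y ∈ Set.range ι := ⟨y, rfl⟩
    rw [Scheme.IdealSheafData.range_subschemeι, Scheme.IdealSheafData.support_mul] at this
    simp only [Closeds.coe_sup, Set.union_self, Scheme.Hom.support_ker, Closeds.coe_closure,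
      s₀'.isClosedEmbedding.isClosed_range.closure_eq] at this
    obtain ⟨p, hp⟩ := this
    exact ⟨p, ι.isClosedEmbedding.injective (by rw [← Scheme.Hom.comp_apply, hz, hp])⟩
  let q : Z ⟶ Spec (CommRingCat.of A) := ι ≫ W.ι ≫ pullback.snd f b
  have hzq : z ≫ q = j := by simp only [q, reassoc_of% hz, s₀', W, Scheme.Hom.liftCoborder_ι_assoc, hs₀]
  have hzq' : ∀ p, q (z p) = j p := fun p => by rw [← Scheme.Hom.comp_apply, hzq]
  have : IsAffineHom q := by
    let e := z.isClosedEmbedding.isEmbedding.toHomeomorphOfSurjective hzs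
    have hqe : (q : Z → Spec (CommRingCat.of A)) = j ∘ e.symm := funext fun y => by
      obtain ⟨p, rfl⟩ := hzs y
      have : e.symm (z p) = p := e.symm_apply_apply p
      rw [Function.comp_apply, this, hzq']
    refine isAffineHom_of_isInducing q ?_ ?_
    · rw [hqe]; exact j.isClosedEmbedding.isInducing.comp e.symm.isInducing
    · rw [hqe, e.symm.surjective.range_comp, j.surjective.range_eq]; exact isClosed_univ
  have : IsAffine Z := isAffine_of_isAffineHom q
  obtain ⟨α, hα⟩ := Spec.map_surjective (Z.isoSpec.inv ≫ q)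
  obtain ⟨π₀, hπ₀⟩ := Spec.map_surjective (z ≫ Z.isoSpec.hom)
  have hπα : α ≫ π₀ = CommRingCat.ofHom (Ideal.Quotient.mk I) := Spec.map_injective (by
    rw [Spec.map_comp, hα, hπ₀, Category.assoc, Iso.hom_inv_id_assoc, hzq])
  let : Algebra A Γ(Z, ⊤) := α.hom.toAlgebra
  let π₁ : Γ(Z, ⊤) →ₐ[A] A ⧸ I :=
    { π₀.hom with commutes' := fun r => congr($hπα r) }
  let N := RingHom.ker π₁
  let π : Γ(Z, ⊤) ⧸ N ^ 2 →ₐ[A] A ⧸ I :=
    Ideal.Quotient.liftₐ (N ^ 2) π₁ fun x hx => Ideal.pow_le_self two_ne_zero hx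
  have hπ : RingHom.ker π ^ 2 = ⊥ := by
    have : RingHom.ker π ≤ N.map (Ideal.Quotient.mk (N ^ 2)) := fun x hx => by
      obtain ⟨x, rfl⟩ := Ideal.Quotient.mk_surjective x
      exact Ideal.mem_map_of_mem _ (show π₁ x = 0 from hx)
    refine le_bot_iff.1 ((pow_le_pow_left' this 2).trans ?_)
    rw [← Ideal.map_pow, Ideal.map_quotient_self]
  choose U hU hUf using h
  have hg : ∀ p, ∃ g : A, j p ∈ PrimeSpectrum.basicOpen g ∧
      ∀ p', j p' ∈ PrimeSpectrum.basicOpen g → a p' ∈ U (a p) := fun p => by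
    let e := j.isClosedEmbedding.isEmbedding.toHomeomorphOfSurjective j.surjective
    have ho : IsOpen (j '' (a ⁻¹' (U (a p) : Set X))) :=
      e.isOpenMap _ ((U (a p)).2.preimage a.continuous)
    obtain ⟨_, ⟨g, rfl⟩, hg, hgs⟩ :=
      PrimeSpectrum.isTopologicalBasis_basic_opens.exists_subset_of_mem_open
        (Set.mem_image_of_mem j (hU (a p))) ho
    exact ⟨g, hg, fun p' hp' => by
      obtain ⟨p'', hp'', he⟩ := hgs hp'
      obtain rfl := j.isClosedEmbedding.injective he
      exact hp''⟩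
  choose g hgp hgU using hg
  have hspan : Ideal.span (Set.range g) = ⊤ := by
    rw [← PrimeSpectrum.iSup_basicOpen_eq_top_iff, ← top_le_iff]
    intro p _
    obtain ⟨p₀, rfl⟩ := j.surjective p
    exact Opens.mem_iSup.2 ⟨p₀, hgp p₀⟩
  obtain ⟨t, hts, htop⟩ := (Ideal.span_eq_top_iff_finite _).1 hspan
  choose pt hpt using fun i : (t : Set A) => hts i.2
  have hlift : ∀ i : (t : Set A), LiftsAt π (i : A) := by
    intro i A' A'' _ _ _ _ φ hφ hu I'' hI'' hker hII η hη
    let p := pt i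
    let η₀ : Γ(Z, ⊤) →ₐ[A] A'' := η.comp (Ideal.Quotient.mkₐ A _)
    let e'' : Spec (CommRingCat.of A'') ⟶ Z := Spec.map (CommRingCat.ofHom η₀.toRingHom) ≫ Z.isoSpec.inv
    let sA : Spec (CommRingCat.of A') ⟶ Spec (CommRingCat.of A) :=
      Spec.map (CommRingCat.ofHom (algebraMap A A'))
    let φs : Spec (CommRingCat.of A'') ⟶ Spec (CommRingCat.of A') := Spec.map (CommRingCat.ofHom φ.toRingHom)
    have he''q : e'' ≫ q = φs ≫ sA := by
      simp only [e'', φs, sA, Category.assoc, ← hα, ← Spec.map_comp]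
      congr 1
      ext r
      exact (η₀.commutes r).trans (φ.commutes r).symm
    let a'' : Spec (CommRingCat.of A'') ⟶ X := e'' ≫ ι ≫ W.ι ≫ pullback.fst f b
    have haU : Set.range a'' ⊆ Set.range (U (a p)).ι := by
      rintro _ ⟨y, rfl⟩
      rw [Scheme.Opens.range_ι]
      obtain ⟨p', hp'⟩ := hzs (e'' y)
      have h1 : j p' ∈ PrimeSpectrum.basicOpen (i : A) := by
        rw [← hzq', hp', ← Scheme.Hom.comp_apply, he''q, Scheme.Hom.comp_apply]
        exact fun hmem => (φs y).isPrime.ne_top (Ideal.eq_top_of_isUnit_mem _ hmem hu)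
      have h2 : a'' y = a p' := by
        simp only [a'', Scheme.Hom.comp_apply, ← hp']
        rw [← Scheme.Hom.comp_apply, ← Scheme.Hom.comp_apply, ← Scheme.Hom.comp_apply]
        congr 1
        simp only [reassoc_of% hz, s₀', W, Scheme.Hom.liftCoborder_ι_assoc, Category.assoc]
        rw [pullback.lift_fst]
      rw [h2]
      exact hgU p p' (by rw [hpt i]; exact h1)
    let aU := IsOpenImmersion.lift (U (a p)).ι a'' haU
    have haU' : aU ≫ (U (a p)).ι = a'' := IsOpenImmersion.lift_fac _ _ _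
    obtain ⟨l', hl₁, hl₂⟩ := lift_of_surjective (hUf (a p)) φ.toRingHom hφ
      (le_bot_iff.1 ((pow_le_pow_left' hker 2).trans hI''.le)) aU (sA ≫ b) (by
        rw [reassoc_of% haU', ← Category.assoc, ← he''q]
        simp only [a'', q, Category.assoc, pullback.condition])
    let s : Spec (CommRingCat.of A') ⟶ pullback f b :=
      pullback.lift (l' ≫ (U (a p)).ι) sA (by rw [Category.assoc, hl₂])
    have hφs : φs ≫ s = e'' ≫ ι ≫ W.ι := by
      apply pullback.hom_ext
      · simp only [s, Category.assoc, pullback.lift_fst]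
        exact (Category.assoc _ _ _).symm.trans ((congrArg (· ≫ _) hl₁).trans haU')
      · simp only [s, Category.assoc, pullback.lift_snd]
        exact he''q.symm
    let i'' := NilLift.quotι I''
    have hi''s : Surjective i'' := NilLift.surjective_quotι I'' ⟨2, by rw [hI'']; rfl⟩
    let θ : A ⧸ I →+* A' ⧸ I'' := Ideal.quotientMap I'' (algebraMap A A') (Ideal.map_le_iff_le_comap.1 hII)
    let ρ : A'' →+* A' ⧸ I'' := φ.toRingHom.liftOfSurjective hφ
      ⟨Ideal.Quotient.mk I'', by rw [Ideal.mk_ker]; exact hker⟩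
    have hρ : ρ.comp φ.toRingHom = Ideal.Quotient.mk I'' := φ.toRingHom.liftOfSurjective_comp hφ _
    have hρη : ρ.comp η₀.toRingHom = θ.comp π₀.hom := RingHom.ext fun c => by
      obtain ⟨r, hr⟩ := Ideal.Quotient.mk_surjective (π₁ c)
      obtain ⟨x, hx⟩ := hφ (η₀ c)
      simp only [RingHom.comp_apply]
      rw [show π₀.hom c = Ideal.Quotient.mk I r from hr.symm, Ideal.quotientMap_mk,
        show η₀.toRingHom c = φ.toRingHom x from hx.symm, ← RingHom.comp_apply, hρ]
      exact Ideal.Quotient.eq.2 (hη (Ideal.Quotient.mk _ c) r x hr.symm hx)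
    have hi : i'' = Spec.map (CommRingCat.ofHom ρ) ≫ φs := by
      simp only [φs, ← Spec.map_comp, ← CommRingCat.ofHom_comp, hρ]
      rfl
    have hi''W : i'' ≫ s = (Spec.map (CommRingCat.ofHom θ) ≫ s₀') ≫ W.ι := by
      have e : Spec.map (CommRingCat.ofHom ρ) ≫ e'' = Spec.map (CommRingCat.ofHom θ) ≫ z := by
        simp only [e'', ← Category.assoc]
        rw [Iso.comp_inv_eq, Category.assoc, ← hπ₀, ← Spec.map_comp, ← Spec.map_comp, ← CommRingCat.ofHom_comp, hρη]
        rfl
      rw [hi, Category.assoc, hφs, reassoc_of% e, reassoc_of% hz, Category.assoc]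
    have hsW : Set.range s ⊆ Set.range W.ι := by
      rintro _ ⟨y, rfl⟩
      obtain ⟨y, rfl⟩ := hi''s.surj y
      rw [← Scheme.Hom.comp_apply, hi''W]
      exact ⟨_, rfl⟩
    let s' := IsOpenImmersion.lift W.ι s hsW
    have hs' : s' ≫ W.ι = s := IsOpenImmersion.lift_fac _ _ _
    have hi''s' : i'' ≫ s' = Spec.map (CommRingCat.ofHom θ) ≫ s₀' := by
      rw [← cancel_mono W.ι, Category.assoc, hs', hi''W]
    have hKs : ι.ker ≤ s'.ker := by
      rw [Scheme.IdealSheafData.ker_subschemeι]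
      refine le_trans ?_ (ker_comp_mul_le i'' (ker_mul_ker_eq_bot I'' hI'') s')
      rw [hi''s']
      intro V
      simp only [K, Scheme.IdealSheafData.ideal_mul, Pi.mul_apply]
      exact Ideal.mul_mono (Scheme.Hom.le_ker_comp _ s₀' V) (Scheme.Hom.le_ker_comp _ s₀' V)
    let d : Spec (CommRingCat.of A') ⟶ Z := IsClosedImmersion.lift ι s' hKs
    have hd : d ≫ ι = s' := IsClosedImmersion.lift_fac _ _ _
    obtain ⟨δ₀, hδ₀⟩ := Spec.map_surjective (d ≫ Z.isoSpec.hom)
    have hdq : d ≫ q = sA := by simp only [q, reassoc_of% hd, reassoc_of% hs', s, pullback.lift_snd]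
    have hδα : α ≫ δ₀ = CommRingCat.ofHom (algebraMap A A') := Spec.map_injective (by
      rw [Spec.map_comp, hα, hδ₀, Category.assoc, Iso.hom_inv_id_assoc, hdq])
    have hφδ : δ₀ ≫ CommRingCat.ofHom φ.toRingHom = CommRingCat.ofHom η₀.toRingHom := Spec.map_injective (by
      rw [Spec.map_comp, hδ₀, ← Category.assoc, ← Iso.eq_comp_inv, ← cancel_mono ι, ← cancel_mono W.ι]
      simp only [Category.assoc, reassoc_of% hd, hs']
      exact hφs.trans (by simp only [e'', Category.assoc]))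
    let δ₁ : Γ(Z, ⊤) →ₐ[A] A' := { δ₀.hom with commutes' := fun r => congr($hδα r) }
    have hδN : ∀ x ∈ N, δ₁ x ∈ I'' := fun x hx => by
      have := hη (Ideal.Quotient.mk _ x) 0 (δ₁ x) (by rw [map_zero]; exact hx) congr($hφδ x)
      simpa using this
    refine ⟨Ideal.Quotient.liftₐ (N ^ 2) δ₁ fun x hx => ?_, ?_⟩
    · have : N ^ 2 ≤ RingHom.ker δ₁ := by
        rw [pow_two, Ideal.mul_le]
        intro u hu v hv
        rw [RingHom.mem_ker, map_mul, ← Ideal.mem_bot, ← hI'', pow_two]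
        exact Ideal.mul_mem_mul (hδN u hu) (hδN v hv)
      exact this hx
    · refine AlgHom.ext fun c => ?_
      obtain ⟨c, rfl⟩ := Ideal.Quotient.mk_surjective c
      exact congr($hφδ c)
  have : Finite (t : Set A) := t.finite_toSet.to_subtype
  obtain ⟨δ, hδ⟩ := exists_section hπ hI (g := fun i : (t : Set A) => (i : A))
    (by rw [Subtype.range_coe]; exact htop) hlift
  let d : Spec (CommRingCat.of A) ⟶ Z :=
    Spec.map (CommRingCat.ofHom (δ.toRingHom.comp (Ideal.Quotient.mk (N ^ 2)))) ≫ Z.isoSpec.inv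
  have hjd : j ≫ d = z := by
    simp only [j, d, ← Spec.map_comp_assoc]
    rw [Iso.comp_inv_eq, ← hπ₀]
    congr 1
    ext c
    exact congr($hδ (Ideal.Quotient.mk _ c))
  have hdq : d ≫ q = 𝟙 _ := by
    simp only [d, Category.assoc, ← hα, ← Spec.map_comp, ← Spec.map_id]
    congr 1
    ext r
    exact δ.commutes r
  refine ⟨d ≫ ι ≫ W.ι ≫ pullback.fst f b, ?_, ?_⟩
  · change j ≫ d ≫ ι ≫ W.ι ≫ pullback.fst f b = a
    rw [reassoc_of% hjd, reassoc_of% hz]
    simp only [s₀', W, Scheme.Hom.liftCoborder_ι_assoc, s₀, pullback.lift_fst]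
  · simp only [Category.assoc, pullback.condition]
    simpa only [q, Category.assoc, Category.id_comp] using congrArg (· ≫ b) hdq

end Groth.Agent.SmoothLift
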